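import Groth.Agent.Lib.CMReg.NegGrowth
import Groth.Agent.Lib.CMReg.StructureMain
import Groth.Agent.Lib.Snapper.AvoidAll
import Groth.Agent.Lib.LinProj.Cover
import Groth.Agent.Lib.LocFreeDual20.Basic

/-!
# Multiplication by a general linear form
-/

universe u

set_option backward.isDefEq.respectTransparency false
set_option linter.all false

open AlgebraicGeometry CategoryTheory CategoryTheory.Limits TopologicalSpace Opposite
open GrothLib.Snapper (DimLT)

noncomputable section

namespace GrothLib.Regularity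

open GrothLib.CMReg

section General

variable {X : Scheme.{u}} {A : X.Modules}

/-- Multiplication by `θ : A → O`, `M ⊗ A → M`. -/
def mulBy (θ : A ⟶ Coh.structureModule X) (M : X.Modules) : CohB1.tensorMod M A ⟶ M :=
  ((DCoh.tensorBi (X := X)).obj M).map θ ≫ (LocFreeDual20.unitR M).hom

theorem mulBy_naturality (θ : A ⟶ Coh.structureModule X) {M N : X.Modules} (f : M ⟶ N) :
    ((DCoh.tensorBi (X := X)).map f).app A ≫ mulBy θ N = mulBy θ M ≫ f := by
  show ((DCoh.tensorBi (X := X)).map f).app _ ≫ _ ≫ _ = (_ ≫ _) ≫ _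
  rw [← Category.assoc, ← NatTrans.naturality, Category.assoc, Category.assoc, OX.tMap_left]
  exact congrArg (((DCoh.tensorBi (X := X)).obj M).map θ ≫ ·) (LocFreeDual20.unitR_natural f)

theorem bijective_mulBy (θ : A ⟶ Coh.structureModule X) (M : X.Modules) {U : X.Opens}
    (hθ : Kodaira.IsoOn U θ) {x : X} (hx : x ∈ U) : Function.Bijective (QCoh.stalkLin (mulBy θ M) x) :=
  ((hθ.tensor_left M).comp (Kodaira.isoOn_of_iso _ (LocFreeDual20.unitR M).hom)).stalk_bijective hx

end General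

variable {n : ℕ} {k : Type u} [Field k]

/-- A linear form, as a section, off finitely many points. -/
theorem exists_sect_one_avoid [Infinite k] {T : Set (CohB1.ProjSpace n k)} (hT : T.Finite) :
    ∃ a : (cc n k).sect 1 ⊤, ∀ η ∈ T, η ∈ (cc n k).locus a := by
  classical
  let c := cc n k
  let γ : k →+* Γ(CohB1.ProjSpace n k, ⊤) := Coh.toGlobal (CohB1.ProjSpace n k ↘ Spec (CommRingCat.of k))
  let comb : (Fin (n + 1) → k) → c.sect 1 ⊤ := fun w => ∑ l : Fin (n + 1), γ (w l) • coordSect n k l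
  have hgerm : ∀ (η : CohB1.ProjSpace n k) (i : c.ι) (hi : η ∈ c.D i) (w : Fin (n + 1) → k),
      η ∈ c.locus (comb w) ↔ (CohB1.ProjSpace n k).presheaf.germ _ η (show η ∈ ⊤ ⊓ c.D i from ⟨trivial, hi⟩)
        ((comb w).1 i) ∉ IsLocalRing.maximalIdeal _ := by
    intro η i hi w
    rw [c.mem_locus_iff _ hi, Scheme.mem_basicOpen _ _ η (show η ∈ ⊤ ⊓ c.D i from ⟨trivial, hi⟩),
      IsLocalRing.notMem_maximalIdeal]
  have hadd : ∀ v w, comb (v + w) = comb v + comb w := fun v w => by
    simp only [comb, Pi.add_apply, map_add, add_smul, Finset.sum_add_distrib]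
  have hsmul : ∀ (r : k) w, comb (r • w) = γ r • comb w := fun r w => by
    simp only [comb, Pi.smul_apply, smul_eq_mul, map_mul, mul_smul, Finset.smul_sum]
  let p : CohB1.ProjSpace n k → Submodule k (Fin (n + 1) → k) := fun η =>
    { carrier := {w | η ∉ c.locus (comb w)}
      zero_mem' := by
        show η ∉ c.locus (comb 0)
        obtain ⟨i, hi⟩ := c.exists_mem η
        rw [hgerm η i hi, not_not, show comb 0 = 0 by simp [comb]]
        rw [show ((0 : c.sect 1 ⊤)).1 i = 0 from rfl, map_zero]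
        exact Submodule.zero_mem _
      add_mem' := fun {v w} hv hw => by
        obtain ⟨i, hi⟩ := c.exists_mem η
        simp only [Set.mem_setOf_eq, hgerm η i hi, not_not] at hv hw ⊢
        rw [hadd, show (comb v + comb w).1 i = (comb v).1 i + (comb w).1 i from rfl, map_add]
        exact Ideal.add_mem _ hv hw
      smul_mem' := fun r w hw => by
        obtain ⟨i, hi⟩ := c.exists_mem η
        simp only [Set.mem_setOf_eq, hgerm η i hi, not_not] at hw ⊢
        rw [hsmul, c.smul_apply, map_mul]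
        exact Ideal.mul_mem_left _ _ hw }
  have hne : ∀ η, p η ≠ ⊤ := fun η h => by
    obtain ⟨l, hl, hηl⟩ := covers (n := n) (k := k) η
    have hw : Pi.single (⟨l, hl⟩ : Fin (n + 1)) (1 : k) ∈ p η := by rw [h]; trivial
    refine hw ?_
    show η ∈ c.locus (comb _)
    have hc : comb (Pi.single (⟨l, hl⟩ : Fin (n + 1)) (1 : k)) = coordSect n k l := by
      simp only [comb]
      rw [Finset.sum_eq_single (⟨l, hl⟩ : Fin (n + 1))]
      · rw [Pi.single_eq_same, map_one, one_smul]
      · intro b _ hb; rw [Pi.single_eq_of_ne hb, map_zero, zero_smul]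
      · intro h; exact absurd (Finset.mem_univ _) h
    rw [hc]; exact hηl
  have h := Subspace.biUnion_ne_univ_of_top_notMem (s := hT.toFinset.image p) (by
    simp only [Finset.mem_image, not_exists, not_and]
    exact fun y _ => hne y)
  obtain ⟨w, hw⟩ := (Set.ne_univ_iff_exists_notMem _).1 h
  refine ⟨comb w, fun η hη => ?_⟩
  by_contra hc
  exact hw (Set.mem_biUnion (Finset.mem_image_of_mem p (hT.mem_toFinset.2 hη)) hc)

/-- The map `O → O(1)` of a linear form. -/
def theta₀ (a : (cc n k).sect 1 ⊤) :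
    Coh.structureModule (CohB1.ProjSpace n k) ⟶ Twist.twistProjSpace n k 1 :=
  (cc n k).hom a ≫ (Ample.ProjMap.pcocIso n k).inv

theorem isoOn_theta₀ (a : (cc n k).sect 1 ⊤) : Kodaira.IsoOn ((cc n k).locus a) (theta₀ a) :=
  Kodaira.IsoOn.comp
    ((NatIso.isIso_map_iff (Scheme.Modules.restrictFunctorIsoPullback ((cc n k).locus a).ι) ((cc n k).hom a)).1
      ((cc n k).isIso_restrict_hom a le_rfl))
    (Kodaira.isoOn_of_iso _ _)

/-- `O(1) ⊗ O(-1) ≅ O`. -/
def twistPairIso : Ft (Twist.twistProjSpace n k 1) (-1) ≅ Coh.structureModule (CohB1.ProjSpace n k) :=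
  (nonempty_twist_add (n := n) (k := k) (a := 1) (b := -1) (c := 0) (add_neg_cancel 1)).some ≪≫
    (nonempty_twist_zero (n := n) (k := k)).some

/-- The map `O(-1) → O` of a linear form. -/
def theta (a : (cc n k).sect 1 ⊤) :
    Twist.twistProjSpace n k (-1) ⟶ Coh.structureModule (CohB1.ProjSpace n k) :=
  (nonempty_Ft_structure (n := n) (k := k) (-1)).some.inv ≫
    ((DCoh.tensorBi (X := CohB1.ProjSpace n k)).map (theta₀ a)).app (Twist.twistProjSpace n k (-1)) ≫
    (twistPairIso (n := n) (k := k)).hom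

theorem isoOn_theta (a : (cc n k).sect 1 ⊤) : Kodaira.IsoOn ((cc n k).locus a) (theta a) :=
  ((Kodaira.isoOn_of_iso _ (nonempty_Ft_structure (n := n) (k := k) (-1)).some.inv).comp
    (((isoOn_theta₀ a).tensor_right (Twist.twistProjSpace n k (-1))).comp
      (Kodaira.isoOn_of_iso _ (twistPairIso (n := n) (k := k)).hom)))

/-- Multiplication by a linear form, `M(-1) → M`. -/
def mulLin (a : (cc n k).sect 1 ⊤) (M : (CohB1.ProjSpace n k).Modules) : Ft M (-1) ⟶ M :=
  mulBy (theta a) M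

theorem mulLin_naturality (a : (cc n k).sect 1 ⊤) {M N : (CohB1.ProjSpace n k).Modules} (f : M ⟶ N) :
    (ftFun (-1)).map f ≫ mulLin a N = mulLin a M ≫ f :=
  mulBy_naturality (theta a) f

theorem bijective_mulLin (a : (cc n k).sect 1 ⊤) (M : (CohB1.ProjSpace n k).Modules)
    {x : CohB1.ProjSpace n k} (hx : x ∈ (cc n k).locus a) :
    Function.Bijective (QCoh.stalkLin (mulLin a M) x) :=
  bijective_mulBy (theta a) M (isoOn_theta a) hx

/-- A linear form off the weakly associated points is injective. -/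
theorem mono_mulLin (a : (cc n k).sect 1 ⊤) {M : (CohB1.ProjSpace n k).Modules} (hM : Coh.IsCoh M)
    (h : ∀ x, Curv2.IsWeakAssPoint (Ft M (-1)) x → x ∈ (cc n k).locus a) : Mono (mulLin a M) := by
  haveI := (isCoh_Ft hM (-1)).1
  exact mono_of_stalk_injective_weakAss _ fun x hx => (bijective_mulLin a M (h x hx)).1

/-- A monomorphism descends to the quotients by a form injective on the quotient. -/
theorem mono_cokernel_map {C : Type*} [Category C] [Abelian C] {A₁ A₂ A₃ B₁ B₂ B₃ : C}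
    (f₁ : A₁ ⟶ A₂) (g₁ : A₂ ⟶ A₃) (f : B₁ ⟶ B₂) (g : B₂ ⟶ B₃) (w₁ : f₁ ≫ g₁ = 0) (w : f ≫ g = 0)
    (h₁ : (ShortComplex.mk f₁ g₁ w₁).Exact) [Mono f]
    (v₁ : A₁ ⟶ B₁) (v₂ : A₂ ⟶ B₂) (v₃ : A₃ ⟶ B₃) (c₁ : f₁ ≫ v₂ = v₁ ≫ f) (c₂ : g₁ ≫ v₃ = v₂ ≫ g)
    [Mono v₃] : Mono (cokernel.map v₁ v₂ f₁ f c₁.symm) := by
  refine Preadditive.mono_of_cancel_zero _ fun {P} x hx => ?_
  obtain ⟨P₁, π₁, hπ₁, b, hb⟩ := surjective_up_to_refinements_of_epi (cokernel.π v₁) x
  have hz : (b ≫ f) ≫ cokernel.π v₂ = 0 := by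
    rw [Category.assoc, ← cokernel.π_desc v₁ (f ≫ cokernel.π v₂) (by rw [← Category.assoc, ← c₁,
      Category.assoc, cokernel.condition, comp_zero]), ← Category.assoc, ← hb, Category.assoc]
    exact (congrArg (π₁ ≫ ·) hx).trans comp_zero
  obtain ⟨P₂, π₂, hπ₂, m, hm⟩ := (ShortComplex.exact_cokernel v₂).exact_up_to_refinements (b ≫ f) hz
  have hmg : m ≫ g₁ = 0 := by
    rw [← cancel_mono v₃, zero_comp, Category.assoc, c₂, ← Category.assoc,
      show m ≫ v₂ = π₂ ≫ b ≫ f from hm.symm, Category.assoc, Category.assoc, w, comp_zero, comp_zero]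
  obtain ⟨P₃, π₃, hπ₃, l, hl⟩ := h₁.exact_up_to_refinements m hmg
  have hfin : π₃ ≫ π₂ ≫ b = l ≫ v₁ := by
    rw [← cancel_mono f, Category.assoc, Category.assoc, show π₂ ≫ b ≫ f = m ≫ v₂ from hm,
      ← Category.assoc, show π₃ ≫ m = l ≫ f₁ from hl, Category.assoc, c₁, Category.assoc]
  rw [← cancel_epi π₁, comp_zero, hb, ← cancel_epi π₂, ← cancel_epi π₃, comp_zero, comp_zero,
    ← Category.assoc, ← Category.assoc, Category.assoc π₃, hfin, Category.assoc, cokernel.condition,
    comp_zero]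

end GrothLib.Regularity
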