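import Groth.Agent.Lib.Regularity10.Linear
import Groth.Agent.Lib.Hilb20.Stable
import Groth.Agent.Lib.CMReg.Complex

/-!
# Uniform bound for the regularity of submodules with given Euler characteristics
-/

universe u

set_option backward.isDefEq.respectTransparency false
set_option linter.all false

open AlgebraicGeometry CategoryTheory CategoryTheory.Limits TopologicalSpace Opposite
open GrothLib.Snapper (DimLT)

noncomputable section

namespace GrothLib.Regularity

open GrothLib.CMReg

variable {n : ℕ} {k : Type u} [Field k]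

/-- Euler characteristic of a twist in a short exact sequence. -/
theorem euler_Ft_add {S : ShortComplex (CohB1.ProjSpace n k).Modules} (hS : S.ShortExact)
    (h₁ : Coh.IsCoh S.X₁) (h₂ : Coh.IsCoh S.X₂) (h₃ : Coh.IsCoh S.X₃) (t : ℤ) :
    Curv2.euler k (CohB1.ProjSpace n k) (Ft S.X₂ t) = Curv2.euler k (CohB1.ProjSpace n k) (Ft S.X₁ t) +
      Curv2.euler k (CohB1.ProjSpace n k) (Ft S.X₃ t) :=
  Euler.euler_additive (X := CohB1.ProjSpace n k) k (S := S.map (ftFun t)) (ft_shortExact hS t) (isCoh_Ft h₁ t) (isCoh_Ft h₂ t) (isCoh_Ft h₃ t)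

/-- If the higher cohomology of degree at least two vanishes, `χ = h⁰ - h¹`. -/
theorem euler_eq_h0_sub_h1 (F : (CohB1.ProjSpace n k).Modules)
    (h : ∀ i, 2 ≤ i → Subsingleton (Coh.HH (CohB1.ProjSpace n k) F i)) :
    Curv2.euler k (CohB1.ProjSpace n k) F = (Module.finrank k (Coh.HH (CohB1.ProjSpace n k) F 0) : ℤ) -
      (Module.finrank k (Coh.HH (CohB1.ProjSpace n k) F 1) : ℤ) := by
  rw [Euler.euler_eq_sum k F (N := 2) h, Finset.sum_range_succ, Finset.sum_range_succ, Finset.sum_range_zero]
  ring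

/-- **Submodules with given Euler characteristics of a family of regular modules with bounded global
sections have bounded regularity.** -/
theorem exists_regularity_bound [Infinite k] : ∀ (d : ℕ) (B : ℕ → ℕ) (Q : ℤ → ℤ) (T : ℤ),
    ∃ m : ℤ, ∀ M : (CohB1.ProjSpace n k).Modules, Coh.IsCoh M → DimLT (CohB1.support M) d →
      Curv2.IsMRegular k n M 0 →
      (∀ t : ℕ, Module.finrank k (Coh.HH (CohB1.ProjSpace n k) (Ft M t) 0) ≤ B t) →
      ∀ (K : (CohB1.ProjSpace n k).Modules) (i : K ⟶ M), Mono i → Coh.IsCoh K →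
        (∀ t, T ≤ t → Curv2.euler k (CohB1.ProjSpace n k) (Ft K t) = Q t) →
        Curv2.IsMRegular k n K m := by
  intro d
  induction d with
  | zero =>
    intro B Q T
    refine ⟨0, fun M _ hd _ _ K i hi _ _ j _ _ => ?_⟩
    have hM : IsZero M := Hilb20.isZero_of_support_eq_empty
      (Set.not_nonempty_iff_eq_empty.1 fun h => Snapper.not_dimLT_zero h hd)
    exact subsingleton_Ft_of_isZero (IsZero.of_mono i hM) _ j
  | succ d ih =>
    intro B Q T
    obtain ⟨m₁, hm₁⟩ := ih B (fun t => Q t - Q (t - 1)) (T + 1)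
    obtain ⟨m', hm'₁, hm'T, hm'0⟩ : ∃ m' : ℤ, m₁ ≤ m' ∧ T + 1 ≤ m' ∧ 1 ≤ m' :=
      ⟨max m₁ (max (T + 1) 1), le_max_left _ _, le_trans (le_max_left _ _) (le_max_right _ _),
        le_trans (le_max_right _ _) (le_max_right _ _)⟩
    refine ⟨m' + ((B (m' - 1).toNat : ℤ) - Q (m' - 1)).toNat, fun M hM hd hMreg hB K i hi hK hQ => ?_⟩
    haveI := hM.1
    haveI := hi
    let S := CohB1.support M
    let Mx : Set (CohB1.ProjSpace n k) := {x | x ∈ S ∧ ∀ y ∈ S, y ⤳ x → y = x}
    have hMx : Mx.Finite :=
      Snapper.finite_of_maximal (QCoh.isClosed_support_of_isCoh hM) (fun x hx => hx.1) (fun x hx => hx.2)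
    have hQc : Coh.IsCoh (cokernel i) := QCoh.isCoh_cokernel i hK hM
    obtain ⟨a, ha⟩ := exists_sect_one_avoid (n := n) (k := k)
      (((NegTwist.finite_weakAss (isCoh_Ft hM (-1))).union
        (NegTwist.finite_weakAss (isCoh_Ft hQc (-1)))).union hMx)
    haveI hmM : Mono (mulLin a M) := mono_mulLin a hM fun x hx => ha x (Or.inl (Or.inl hx))
    haveI hmQ : Mono (mulLin a (cokernel i)) := mono_mulLin a hQc fun x hx => ha x (Or.inl (Or.inr hx))
    let S₀ : ShortComplex (CohB1.ProjSpace n k).Modules :=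
      ShortComplex.mk i (cokernel.π i) (cokernel.condition i)
    have hS₀ : S₀.ShortExact :=
      { exact := ShortComplex.exact_of_g_is_cokernel _ (cokernelIsCokernel i) }
    have hS₁ := ft_shortExact hS₀ (-1)
    haveI hmi : Mono ((ftFun (n := n) (k := k) (-1)).map i) := hS₁.mono_f
    haveI hmK : Mono (mulLin a K) := by
      haveI : Mono (mulLin a K ≫ i) := by
        rw [← mulLin_naturality]
        exact mono_comp _ _
      exact mono_of_mono _ i
    haveI hmc : Mono (cokernel.map (mulLin a K) (mulLin a M) ((ftFun (-1)).map i) i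
        (mulLin_naturality a i).symm) :=
      mono_cokernel_map ((ftFun (-1)).map i) ((ftFun (-1)).map (cokernel.π i)) i (cokernel.π i)
        (S₀.map (ftFun (-1))).zero (cokernel.condition i) hS₁.exact (mulLin a K) (mulLin a M)
        (mulLin a (cokernel i)) (mulLin_naturality a i) (mulLin_naturality a (cokernel.π i))
    have hK' : Coh.IsCoh (cokernel (mulLin a K)) := isCoh_coker hK
    have hM' : Coh.IsCoh (cokernel (mulLin a M)) := isCoh_coker hM
    have hd' : DimLT (CohB1.support (cokernel (mulLin a M))) d := by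
      refine Snapper.dimLT_of_maximal_mem hd (QCoh.support_subset_of_epi (cokernel.π _)) fun x hx => ?_
      have hxa : x ∉ (cc n k).locus a := fun h =>
        QCoh.notMem_support_cokernel_of_surjective _ (bijective_mulLin a M h).2 hx
      by_contra hno
      push Not at hno
      exact hxa (ha x (Or.inr ⟨QCoh.support_subset_of_epi (cokernel.π _) hx, hno⟩))
    have hMprop := propagate hM 0 hMreg
    have hM'reg : Curv2.IsMRegular k n (cokernel (mulLin a M)) 0 := by
      intro j hj _
      obtain ⟨g⟩ := nonempty_Ft_Ft M (-1) (0 - (j : ℤ)) (-1 - j) (by ring)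
      have h1' : Subsingleton (Coh.HH (CohB1.ProjSpace n k) (Ft M (0 - (j : ℤ))) j) := hMprop j _ hj le_rfl
      have h2' : Subsingleton (Coh.HH (CohB1.ProjSpace n k) (Ft (Ft M (-1)) (0 - (j : ℤ))) (j + 1)) :=
        subsingleton_of_iso g.symm (hMprop (j + 1) (-1 - (j : ℤ)) (by omega) (by push_cast; omega))
      exact sub_X₃ (S := extSeq (mulLin a M)) (t := 0 - (j : ℤ)) (i := j)
        (extSeq_shortExact (ι := mulLin a M)) h1' h2'
    have hB' : ∀ t : ℕ,
        Module.finrank k (Coh.HH (CohB1.ProjSpace n k) (Ft (cokernel (mulLin a M)) t) 0) ≤ B t := by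
      intro t
      have hS := ft_shortExact (extSeq_shortExact (ι := mulLin a M)) (t : ℤ)
      obtain ⟨g⟩ := nonempty_Ft_Ft M (-1) (t : ℤ) ((t : ℤ) - 1) (by ring)
      haveI : Subsingleton (Coh.HH (CohB1.ProjSpace n k) ((extSeq (mulLin a M)).map (ftFun (t : ℤ))).X₁ 1) :=
        subsingleton_of_iso g.symm (hMprop 1 _ le_rfl (by omega))
      haveI : FiniteDimensional k
          (Coh.HH (CohB1.ProjSpace n k) ((extSeq (mulLin a M)).map (ftFun (t : ℤ))).X₂ 0) :=
        finiteDimensional_Ft hM t 0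
      have hsurj : Function.Surjective
          (Cohom.hhMap k ((extSeq (mulLin a M)).map (ftFun (t : ℤ))).g 0) := fun x =>
        ((Cohom.exact₃ (A := k) hS 0) x).1 (Subsingleton.elim _ _)
      have hle := LinearMap.finrank_range_le (Cohom.hhMap k ((extSeq (mulLin a M)).map (ftFun (t : ℤ))).g 0)
      rw [LinearMap.range_eq_top.2 hsurj, finrank_top] at hle
      have hb : Module.finrank k
          (Coh.HH (CohB1.ProjSpace n k) ((extSeq (mulLin a M)).map (ftFun (t : ℤ))).X₂ 0) ≤ B t := hB t
      exact hle.trans hb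
    have hQ' : ∀ t, T + 1 ≤ t →
        Curv2.euler k (CohB1.ProjSpace n k) (Ft (cokernel (mulLin a K)) t) = Q t - Q (t - 1) := by
      intro t ht
      have h := euler_Ft_add (extSeq_shortExact (ι := mulLin a K)) (isCoh_Ft hK (-1)) hK hK' t
      obtain ⟨g⟩ := nonempty_Ft_Ft K (-1) t (t - 1) (by ring)
      have h' : Curv2.euler k (CohB1.ProjSpace n k) (Ft (extSeq (mulLin a K)).X₁ t) = Q (t - 1) :=
        (Euler.euler_of_iso k g).trans (hQ _ (by omega))
      rw [h'] at h
      have h'' : Curv2.euler k (CohB1.ProjSpace n k) (Ft K t) = Q (t - 1) +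
          Curv2.euler k (CohB1.ProjSpace n k) (Ft (cokernel (mulLin a K)) t) := h
      rw [hQ t (by omega)] at h''
      omega
    have hreg := hm₁ _ hM' hd' hM'reg hB' _
      (cokernel.map (mulLin a K) (mulLin a M) ((ftFun (-1)).map i) i (mulLin_naturality a i).symm) hmc hK' hQ'
    have hG : ∀ j : ℕ, 1 ≤ j → j ≤ n →
        Subsingleton (Coh.HH (CohB1.ProjSpace n k) (Ft (cokernel (mulLin a K)) (m' - j)) j) :=
      fun j hj _ => propagate hK' m₁ hreg j _ hj (by omega)
    have h1 : (h1dim K (m' - 1) : ℤ) ≤ (B (m' - 1).toNat : ℤ) - Q (m' - 1) := by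
      have he := euler_eq_h0_sub_h1 (Ft K (m' - 1))
        (fun j hj => vanish_two_le hK hG j _ hj (by omega))
      rw [hQ _ (by omega)] at he
      haveI : FiniteDimensional k (Coh.HH (CohB1.ProjSpace n k) (Ft M (m' - 1)) 0) :=
        finiteDimensional_Ft hM (m' - 1) 0
      haveI : FiniteDimensional k
          (Coh.HH (CohB1.ProjSpace n k) ((ftFun (n := n) (k := k) (m' - 1)).obj M) 0) :=
        finiteDimensional_Ft hM (m' - 1) 0
      haveI : Mono ((ftFun (n := n) (k := k) (m' - 1)).map i) := (ft_shortExact hS₀ (m' - 1)).mono_f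
      have h0 : Module.finrank k (Coh.HH (CohB1.ProjSpace n k) (Ft K (m' - 1)) 0) ≤
          Module.finrank k (Coh.HH (CohB1.ProjSpace n k) (Ft M (m' - 1)) 0) :=
        LinearMap.finrank_le_finrank_of_injective
          (NegTwist.injective_hhMap_zero k ((ftFun (n := n) (k := k) (m' - 1)).map i))
      have hb := hB (m' - 1).toNat
      rw [show (((m' - 1).toNat : ℕ) : ℤ) = m' - 1 by omega] at hb
      have h0' := h0.trans hb
      unfold h1dim
      omega
    intro j hj _
    exact propagate hK (m' + (h1dim K (m' - 1) : ℤ))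
      (fun l hl _ => regular_of_extension hK hG l hl) j _ hj (by omega)

end GrothLib.Regularity
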