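import Groth.Agent.Lib.Regularity10.Bound
import Groth.Agent.Lib.Snapper.PushEuler
import Groth.Agent.Lib.OX.ClosedPush
import Groth.Agent.Lib.UnifVanish7.Spanned
import Groth.Agent.Lib.UnitsThick26.FlatIdeal
import Groth.Agent.Lib.FormalExist7.PushTwist
import Groth.Agent.Lib.Cohom.Compare
import Groth.Agent.Lib.Cohom.PushDerived
import Groth.Agent.Lib.DegDet.Stalk
import Groth.Agent.Lib.ParaPair.Basic
import Groth.Agent.Lib.Ample.CocPullback

/-!
# Uniform regularity of quotients of a free module on a closed subscheme of projective space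
-/

universe u

set_option backward.isDefEq.respectTransparency false
set_option linter.all false

open AlgebraicGeometry CategoryTheory CategoryTheory.Limits TopologicalSpace Opposite
open GrothLib.Snapper (DimLT)

noncomputable section

namespace GrothLib.Regularity

open GrothLib.CMReg
open GrothLib.InvExt (mres)

section General

variable {X : Scheme.{u}}

theorem nonempty_tensorPow_congr {L L' : X.Modules} (e : L ≅ L') :
    ∀ l : ℕ, Nonempty (CohB1.tensorPow L l ≅ CohB1.tensorPow L' l)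
  | 0 => ⟨Iso.refl _⟩
  | l + 1 => by
    obtain ⟨g⟩ := nonempty_tensorPow_congr e l
    exact ⟨Ample.LineData.tensorModMapIso g e⟩

variable {Y : Scheme.{u}} (f : X ⟶ Y)

theorem nonempty_push_tensor {E : Y.Modules} (hE : FlatMod.IsFinLocFree E) (G : X.Modules) {E' : X.Modules}
    (g : E' ≅ (Scheme.Modules.pullback f).obj E) :
    Nonempty ((Scheme.Modules.pushforward f).obj (CohB1.tensorMod G E') ≅
      CohB1.tensorMod ((Scheme.Modules.pushforward f).obj G) E) := by
  haveI := ProjFormula.isIso_projHom f hE G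
  exact ⟨(Scheme.Modules.pushforward f).mapIso
      (Ample.LineData.tensorModMapIso (Iso.refl G) g ≪≫ GrTilde.tensorModComm _ _) ≪≫
    (asIso (ProjFormula.projHom f E G)).symm ≪≫ GrTilde.tensorModComm _ _⟩

/-- A module with spanned direct image along a closed immersion is spanned. -/
theorem spanned_of_push [IsClosedImmersion f] {G : X.Modules}
    (h : Spanned ((Scheme.Modules.pushforward f).obj G)) : Spanned G := by
  intro O m x hx
  obtain ⟨V, hV⟩ : ∃ V : Y.Opens, f ⁻¹ᵁ V = O := by
    obtain ⟨V, hVo, hV⟩ := f.isClosedEmbedding.isInducing.isOpen_iff.1 O.2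
    exact ⟨⟨V, hVo⟩, Opens.ext hV⟩
  subst hV
  obtain ⟨W, hW, hxW, hs⟩ :=
    h V (show Γ((Scheme.Modules.pushforward f).obj G, V) from m) (f x) hx
  refine ⟨f ⁻¹ᵁ W, fun y hy => hW hy, hxW, ?_⟩
  show (show Γ(G, f ⁻¹ᵁ W) from mres ((Scheme.Modules.pushforward f).obj G) hW
    (show Γ((Scheme.Modules.pushforward f).obj G, V) from m)) ∈
      Submodule.span Γ(X, f ⁻¹ᵁ W) (Set.range fun s : Γ(G, ⊤) => mres G (le_top : f ⁻¹ᵁ W ≤ ⊤) s)
  refine Submodule.span_induction
    (p := fun (z : Γ((Scheme.Modules.pushforward f).obj G, W)) _ =>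
      (show Γ(G, f ⁻¹ᵁ W) from z) ∈ Submodule.span Γ(X, f ⁻¹ᵁ W)
        (Set.range fun s : Γ(G, ⊤) => mres G (le_top : f ⁻¹ᵁ W ≤ ⊤) s)) ?_ ?_ ?_ ?_ hs
  · rintro _ ⟨s, rfl⟩
    exact Submodule.subset_span ⟨s, rfl⟩
  · exact Submodule.zero_mem _
  · intro z w _ _ hz hw
    exact Submodule.add_mem _ hz hw
  · intro r z _ hz
    exact Submodule.smul_mem _ (f.app W r) hz

end General

variable {n : ℕ} {k : Type u} [Field k] {X : Scheme.{u}} [X.Over (Spec (CommRingCat.of k))]
  (ι : X ⟶ CohB1.ProjSpace n k) [IsClosedImmersion ι]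
  {L : X.Modules} (hL : Nonempty (L ≅ (Scheme.Modules.pullback ι).obj (Twist.twistProjSpace n k 1)))

include hL in
theorem nonempty_push_twist (G : X.Modules) (l : ℕ) :
    Nonempty ((Scheme.Modules.pushforward ι).obj (ShStab.twist X L G l) ≅
      Ft ((Scheme.Modules.pushforward ι).obj G) (l : ℤ)) := by
  obtain ⟨e⟩ := hL
  obtain ⟨e₁⟩ := nonempty_tensorPow_congr e l
  obtain ⟨e₂⟩ := Ample.nonempty_pullback_tensorPow ι (isInvertible_twist (n := n) (k := k) 1) l
  obtain ⟨e₃⟩ := GrTilde.nonempty_twist_iso_tensorPow (𝒜 := CohB1.polyGrading n k) h1 l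
  exact nonempty_push_tensor ι (Euler.isFinLocFree_of_isInvertible (isInvertible_twist (n := n) (k := k) l)) G
    (e₁ ≪≫ e₂.symm ≪≫ (Scheme.Modules.pullback ι).mapIso e₃.symm)

variable (hι : ι ≫ CohB1.ProjSpace.toSpec n k = X ↘ Spec (CommRingCat.of k))

include hι hL in
theorem subsingleton_twist {G : X.Modules} (hG : Coh.IsCoh G) (l i : ℕ) [IsLocallyNoetherian X]
    (h : Subsingleton (Coh.HH (CohB1.ProjSpace n k) (Ft ((Scheme.Modules.pushforward ι).obj G) (l : ℤ)) i)) :
    Subsingleton (Coh.HH X (ShStab.twist X L G l) i) := by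
  have hinv : PicF.IsInvertible L := ParaPair.isInvertible_of_iso hL.some
    (Ample.isInvertible_pullback ι (isInvertible_twist (n := n) (k := k) 1))
  haveI := (isCoh_tensorMod hG (Ample.isInvertible_tensorPow hinv l)).1
  haveI : (ShStab.twist X L G l).IsQuasicoherent := this
  obtain ⟨e⟩ := Snapper.nonempty_HH_linearEquiv_pushforward (A := k) ι hι (ShStab.twist X L G l) i
  obtain ⟨g⟩ := nonempty_push_twist ι hL G l
  haveI := subsingleton_of_iso g.symm h
  exact e.toEquiv.subsingleton

include hι hL in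
theorem euler_push_Ft {G : X.Modules} (hG : Coh.IsCoh G) (l : ℕ) [IsLocallyNoetherian X] :
    Curv2.euler k (CohB1.ProjSpace n k) (Ft ((Scheme.Modules.pushforward ι).obj G) (l : ℤ)) =
      Curv2.euler k X (ShStab.twist X L G l) := by
  have hinv : PicF.IsInvertible L := ParaPair.isInvertible_of_iso hL.some
    (Ample.isInvertible_pullback ι (isInvertible_twist (n := n) (k := k) 1))
  haveI : (ShStab.twist X L G l).IsQuasicoherent :=
    (isCoh_tensorMod hG (Ample.isInvertible_tensorPow hinv l)).1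
  obtain ⟨g⟩ := nonempty_push_twist ι hL G l
  exact (Euler.euler_of_iso k g).symm.trans (Snapper.euler_pushforward ι hι _)

include hι hL in
/-- **Uniform vanishing and global generation for quotients with a fixed Hilbert polynomial.** -/
theorem exists_uniform [Infinite k] [IsProper (X ↘ Spec (CommRingCat.of k))] (N : ℕ) (P : Polynomial ℚ) :
    ∃ l₀ : ℕ, ∀ (F : X.Modules) (q : FlatMod.freeMod X N ⟶ F),
      Coh.IsCoh F → Epi q → ShStab.IsHilbPoly k X L F P →
        ∀ l : ℕ, l₀ ≤ l →
          (∀ i : ℕ, 0 < i → Subsingleton (Coh.HH X (ShStab.twist X L F l) i)) ∧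
          (∀ i : ℕ, 0 < i → Subsingleton (Coh.HH X (ShStab.twist X L (kernel q) l) i)) ∧
          Curv2.IsGloballyGenerated (ShStab.twist X L (kernel q) l) := by
  haveI := Euler.isNoetherian_of_proper (X := X) k
  let pf := Scheme.Modules.pushforward ι
  haveI : pf.Additive := (Scheme.Modules.pullbackPushforwardAdjunction ι).right_adjoint_additive
  haveI : PreservesFiniteColimits pf := OX.preservesFiniteColimits_pushforward ι
  let M : (CohB1.ProjSpace n k).Modules := FlatMod.freeMod (CohB1.ProjSpace n k) N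
  let EX : (CohB1.ProjSpace n k).Modules := pf.obj (FlatMod.freeMod X N)
  let p : M ⟶ EX := Sigma.desc (fun j : Fin N => ClSub.unitToPush ι ≫ pf.map
    (Sigma.ι (fun _ : Fin N => Coh.structureModule X) j))
  haveI hp : Epi p := by
    haveI := UnitsThick26.epi_unitToPush ι
    have h : p = Limits.Sigma.map (fun _ : Fin N => ClSub.unitToPush ι) ≫
        sigmaComparison pf (fun _ : Fin N => Coh.structureModule X) := by
      refine Sigma.hom_ext _ _ fun j => ?_
      simp [p, M, FlatMod.freeMod]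
      exact congrArg (ClSub.unitToPush ι ≫ ·) (ι_comp_sigmaComparison pf _ j).symm
    rw [h]
    exact epi_comp _ _
  have hM : Coh.IsCoh M := DegDet.isCoh_freeMod _ N
  have hEX : Coh.IsCoh EX := FormalExist7.isCoh_pushforward ι (DegDet.isCoh_freeMod X N)
  have hJ : Coh.IsCoh (kernel p) := QCoh.isCoh_kernel p hM hEX
  have hMreg : Curv2.IsMRegular k n M 0 := fun i hi _ => subsingleton_Ft_freeMod N hi (by omega)
  obtain ⟨D, hD⟩ := exists_dimLT (CohB1.support M)
  obtain ⟨m, hm⟩ := exists_regularity_bound (n := n) (k := k) D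
    (fun t => Module.finrank k (Coh.HH (CohB1.ProjSpace n k) (Ft M t) 0))
    (fun t => Curv2.euler k (CohB1.ProjSpace n k) (Ft M t) - ⌊P.eval (t : ℚ)⌋) 0
  obtain ⟨t₀, ht₀⟩ := exists_serre_bound hJ
  obtain ⟨m₂, hm₂, hm₂'⟩ : ∃ m₂ : ℤ, m ≤ m₂ ∧ t₀ + n ≤ m₂ := ⟨max m (t₀ + n), le_max_left _ _, le_max_right _ _⟩
  refine ⟨m₂.toNat, fun F q hF hq hP l hl => ?_⟩
  haveI := hq
  let S : ShortComplex X.Modules := ShortComplex.mk (kernel.ι q) q (kernel.condition q)
  have hS : S.ShortExact :=
    { exact := ShortComplex.exact_of_f_is_kernel _ (kernelIsKernel q) }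
  have hK : Coh.IsCoh (kernel q) := QCoh.isCoh_kernel q (DegDet.isCoh_freeMod X N) hF
  haveI := hK.1
  have hSp : (S.map pf).ShortExact :=
    Cohom.pushforward_map_shortExact ι hS (Cohom.acyclicOn_of_isAffineHom ι _)
  have hKE : Coh.IsCoh (pf.obj (kernel q)) := FormalExist7.isCoh_pushforward ι hK
  have hFE : Coh.IsCoh (pf.obj F) := FormalExist7.isCoh_pushforward ι hF
  haveI : Epi (pf.map q) := hSp.epi_g
  haveI : Mono (pf.map (kernel.ι q)) := hSp.mono_f
  let r : M ⟶ pf.obj F := p ≫ pf.map q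
  haveI hr : Epi r := epi_comp _ _
  have hK' : Coh.IsCoh (kernel r) := QCoh.isCoh_kernel r hM hFE
  have hSr : (ShortComplex.mk (kernel.ι r) r (kernel.condition r)).ShortExact :=
    { exact := ShortComplex.exact_of_f_is_kernel _ (kernelIsKernel r) }
  have hQ : ∀ t : ℤ, 0 ≤ t → Curv2.euler k (CohB1.ProjSpace n k) (Ft (kernel r) t) =
      Curv2.euler k (CohB1.ProjSpace n k) (Ft M t) - ⌊P.eval (t : ℚ)⌋ := by
    intro t ht
    lift t to ℕ using ht
    have h := euler_Ft_add hSr hK' hM hFE (t : ℤ)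
    have h' : Curv2.euler k (CohB1.ProjSpace n k) (Ft M (t : ℤ)) =
        Curv2.euler k (CohB1.ProjSpace n k) (Ft (kernel r) (t : ℤ)) +
          Curv2.euler k (CohB1.ProjSpace n k) (Ft (pf.obj F) (t : ℤ)) := h
    have h2 : ⌊P.eval ((t : ℤ) : ℚ)⌋ = Curv2.euler k (CohB1.ProjSpace n k) (Ft (pf.obj F) (t : ℤ)) := by
      rw [euler_push_Ft ι hL hι hF t, Int.cast_natCast, ← hP t, Int.floor_intCast]
    omega
  have hreg : Curv2.IsMRegular k n (kernel r) m :=
    hm M hM hD hMreg (fun t => le_rfl) (kernel r) (kernel.ι r) inferInstance hK' hQ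
  have hK'prop := propagate hK' m hreg
  -- the kernel on `X`, pushed forward, is a quotient of `kernel r` by `kernel p`
  let Rp : ShortComplex (CohB1.ProjSpace n k).Modules :=
    ShortComplex.mk (kernel.lift r (kernel.ι p) (by rw [kernel.condition_assoc, zero_comp]))
      (kernel.lift (pf.map q) (kernel.ι r ≫ p) (by rw [Category.assoc]; exact kernel.condition r)) (by
        rw [← cancel_mono (kernel.ι (pf.map q)), Category.assoc, kernel.lift_ι, kernel.lift_ι_assoc,
          kernel.condition, zero_comp])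
  have hRp : Rp.ShortExact := by
    haveI : Mono Rp.f := by
      haveI : Mono (Rp.f ≫ kernel.ι r) := by
        show Mono (kernel.lift r (kernel.ι p) _ ≫ kernel.ι r)
        rw [kernel.lift_ι]
        infer_instance
      exact mono_of_mono _ (kernel.ι r)
    haveI : Epi Rp.g := by
      refine (epi_iff_surjective_up_to_refinements _).2 fun {A} y => ?_
      obtain ⟨A', π, hπ, x, hx⟩ := surjective_up_to_refinements_of_epi p (y ≫ kernel.ι (pf.map q))
      have h0 : x ≫ r = 0 := by
        show x ≫ p ≫ pf.map q = 0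
        rw [← Category.assoc, ← hx]
        simp
      refine ⟨A', π, hπ, kernel.lift r x h0, ?_⟩
      rw [← cancel_mono (kernel.ι (pf.map q))]
      simp [Rp, hx]
    refine { exact := ?_ }
    refine Rp.exact_iff_exact_up_to_refinements.2 fun A x hx => ?_
    have h0 : (x ≫ kernel.ι r) ≫ p = 0 := by
      have h := congrArg (· ≫ kernel.ι (pf.map q)) hx
      simpa [Rp] using h
    refine ⟨A, 𝟙 _, inferInstance, kernel.lift p (x ≫ kernel.ι r) h0, ?_⟩
    rw [← cancel_mono (kernel.ι r)]
    simp [Rp]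
  have hKer : Nonempty (pf.obj (kernel q) ≅ kernel (pf.map q)) :=
    ⟨hSp.fIsKernel.conePointUniqueUpToIso (limit.isLimit _)⟩
  obtain ⟨ek⟩ := hKer
  have hkq : Coh.IsCoh (kernel (pf.map q)) := QCoh.isCoh_of_iso ek hKE
  have hKEreg : ∀ i : ℕ, 1 ≤ i → i ≤ n →
      Subsingleton (Coh.HH (CohB1.ProjSpace n k) (Ft (kernel (pf.map q)) (m₂ - i)) i) := by
    intro i hi hin
    exact sub_X₃ (S := Rp) (t := m₂ - (i : ℤ)) (i := i) hRp (hK'prop i _ hi (by omega))
      (ht₀ _ (by omega) (i + 1) (by omega))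
  have hKEprop := propagate hkq m₂ hKEreg
  refine ⟨fun i hi => ?_, fun i hi => ?_, ?_⟩
  · refine subsingleton_twist ι hL hι hF l i ?_
    exact sub_X₃ (S := ShortComplex.mk (kernel.ι r) r (kernel.condition r)) (t := (l : ℤ)) (i := i) hSr
      (subsingleton_Ft_freeMod N hi (by omega)) (hK'prop (i + 1) _ (by omega) (by omega))
  · refine subsingleton_twist ι hL hι hK l i ?_
    exact subsingleton_of_iso (Ample.LineData.tensorModMapIso ek.symm (Iso.refl _))
      (hKEprop i (l : ℤ) hi (by omega))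
  · obtain ⟨g⟩ := nonempty_push_twist ι hL (kernel q) l
    have h := ((spanned_of_regular hkq m₂ hKEreg (l : ℤ) (by omega)).of_iso
      (Ample.LineData.tensorModMapIso ek.symm (Iso.refl _) ≪≫ g.symm))
    exact (UnifVanish7.stalkSpanned_of_local (spanned_of_push ι h)).isGloballyGenerated

end GrothLib.Regularity
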